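import Cfsg.Agent.Lib.Helper7.McLB9
import Cfsg.Agent.Lib.Helper4.McLF.D1

set_option autoImplicit false
set_option maxRecDepth 100000

/-! # Checks of the data for the fusion in the McLaughlin group -/

namespace Cfsg.Agent.Lib.Helper4.McLF

open Cfsg.Agent.Lib.Helper6.TC
open Cfsg.Agent.Lib.Helper7.McLB (pm baseC levelsC)

/-- the action of a word on a point -/
noncomputable def wa (w : List ℕ) (q : ℕ) : ℕ := wappS pm w q

/-- the images of the base under a function -/
def tupF (f : ℕ → ℕ) : List ℕ := [0, 1, 2, 3, 4].map f

/-- the images of the base under a word -/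
noncomputable def tup (w : List ℕ) : List ℕ := tupF (wa w)

/-- two words acting in the same way on the base -/
noncomputable def eqT (u v : List ℕ) : Bool := tup u == tup v

theorem chk_base : baseC = [0, 1, 2, 3, 4] := by decide +kernel

theorem chk_let : (SW ++ DW ++ CJ).all (fun w => w.all fun c => decide (c < 19)) = true := by
  decide +kernel

theorem chk_tups : SW.map tup = TUPS := by decide +kernel

theorem chk_nodup : TUPS.Nodup := by decide +kernel

theorem chk_len : SW.length = 128 := by decide +kernel

theorem chk_one : SW.contains [] = true := by decide +kernel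

theorem chk_z : SW.contains [16] = true := by decide +kernel

theorem chk_D : DW.all (fun d => SW.contains d) = true := by decide +kernel

theorem chk_SX : (SW.contains SX && wa SX 2 == 246) = true := by decide +kernel

theorem chk_mulD : SW.all (fun w => DW.all fun d => TUPS.contains (tup (w ++ d))) = true := by
  decide +kernel

theorem chk_invD : DW.all (fun d => eqT (d ++ d) []) = true := by decide +kernel

theorem chk_center : SW.all (fun w => (eqT w [] || eqT w [16]) ||
    DW.any (fun d => !(eqT (w ++ d) (d ++ w)))) = true := by decide +kernel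

theorem chk_zcomm : SW.all (fun w => eqT ([16] ++ w) (w ++ [16])) = true := by decide +kernel

theorem chk_conj : (eqT (K0 ++ [16]) (D0 ++ K0) && (eqT (K1 ++ [16]) (D1 ++ K1) &&
    eqT (K2 ++ [16]) (D2 ++ K2))) = true := by decide +kernel

/-- the label of the orbit of a point -/
def olab (q : ℕ) : ℕ := OLAB.getD q 0

theorem chk_fix0 : (List.range 275).all (fun q => q == 0 || DW.any (fun d => wa d q != q)) = true := by
  decide +kernel

theorem chk_Dfix0 : DW.all (fun d => wa d 0 == 0) = true := by decide +kernel

theorem chk_olab : (List.range 275).all (fun q => DW.all (fun d => olab (wa d q) == olab q)) = true := by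
  decide +kernel

theorem chk_zfix : [1, 2, 3].all (fun b => wa [16] b == b) = true := by decide +kernel

/-- the choice of one of three functions -/
def sel (f0 f1 f2 : ℕ → ℕ) (k : ℕ) : ℕ → ℕ := if k = 0 then f0 else if k = 1 then f1 else f2

/-- each tuple of the list is the image of an earlier one under one of three functions -/
def orbChk (f0 f1 f2 : ℕ → ℕ) : List (List ℕ) → List (List ℕ × List ℕ × ℕ) → Bool
  | _, [] => true
  | prev, e :: rest =>
    prev.contains e.2.1 && (e.2.1.map (sel f0 f1 f2 e.2.2) == e.1) &&
      orbChk f0 f1 f2 (e.1 :: prev) rest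

theorem chk_orb : orbChk (wa D0) (wa D1) (wa D2)
    [[0, 1, 2, 3, 4]] ORBP = true := by decide +kernel

theorem chk_SW_orb : TUPS.all (fun t => ([0, 1, 2, 3, 4] :: ORBP.map (fun e => e.1)).contains t) = true := by
  decide +kernel

/-- the levels of the chain -/
def L1 : List (List ℕ) := levelsC.getD 0 []
def L2 : List (List ℕ) := levelsC.getD 1 []
def L3 : List (List ℕ) := levelsC.getD 2 []
def L4 : List (List ℕ) := levelsC.getD 3 []
def L5 : List (List ℕ) := levelsC.getD 4 []

theorem chk_levels : levelsC = [L1, L2, L3, L4, L5] := by decide +kernel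

theorem chk_L1 : L1.all (fun w => wa w 0 != 0 || w == []) = true := by decide +kernel

/-- whether the central involution fixes a point -/
noncomputable def FZ (q : ℕ) : Bool := wa [16] q == q

/-- the candidates for the elements of the normalizer of the Sylow subgroup -/
noncomputable def CAND : List (List ℕ) :=
  (L2.filter fun v2 => FZ (wa v2 1)).flatMap fun v2 =>
    (L3.filter fun v3 => FZ (wa (v3 ++ v2) 2)).flatMap fun v3 =>
      (L4.filter fun v4 => FZ (wa (v4 ++ (v3 ++ v2)) 3)).flatMap fun v4 =>
        L5.map fun v5 => v5 ++ (v4 ++ (v3 ++ v2))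

theorem chk_cand_len : CAND.length = 3456 := by decide +kernel

theorem chk_cand : CAND.all (fun u => (olab (wa u 2) != olab (wa u 246)) ||
    TUPS.contains (tup u)) = true := by decide +kernel

end Cfsg.Agent.Lib.Helper4.McLF
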