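import Cfsg.Agent.Lib.Helper4.McLF.C1
import Cfsg.Agent.Lib.Helper9.L3Fus10

set_option autoImplicit false

/-! # A Sylow 2-subgroup of the McLaughlin group: its elements, its order and its center -/

namespace Cfsg.Agent.Lib.Helper4.McLF

open Cfsg.Agent.Lib.Helper6.TC Cfsg.Agent.Lib.Helper6.PM Cfsg.Agent.Lib.Helper2.PMS
open Cfsg.Agent.Lib.Helper5.Chain
open Cfsg.Agent.Lib.Helper7.McLB (pm baseC levelsC mclS DC factsC mclS_nl)
open Classical

/-- the model of the group -/
noncomputable abbrev M : PModel := mclS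

/-- the right action on the numbers of the points -/
noncomputable def ra (g : M.G) (q : ℕ) : ℕ := ract M g q

theorem ra_lt (g : M.G) (q : ℕ) : ra g q < 275 := ract_lt M g q

theorem ra_mul (g h : M.G) (q : ℕ) : ra (g * h) q = ra h (ra g q) := ract_mul M g h q

theorem ra_one {q : ℕ} (hq : q < 275) : ra 1 q = q := ract_one M q hq

theorem ra_inv_ra (g : M.G) {q : ℕ} (hq : q < 275) : ra g⁻¹ (ra g q) = q := ract_inv_ract M g q hq

theorem ra_ra_inv (g : M.G) {q : ℕ} (hq : q < 275) : ra g (ra g⁻¹ q) = q := ract_ract_inv M g q hq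

/-- the letters of a word are letters of the model -/
def OK (w : List ℕ) : Prop := ∀ c ∈ w, c < 19

theorem OK.append {u v : List ℕ} (hu : OK u) (hv : OK v) : OK (u ++ v) := by
  intro c hc
  rcases List.mem_append.mp hc with h | h
  · exact hu c h
  · exact hv c h

theorem OK_nil : OK [] := by intro c hc; simp at hc

theorem ok_of_mem {w : List ℕ} (h : w ∈ SW ++ DW ++ CJ) : OK w := by
  have := List.all_eq_true.mp chk_let w h
  rw [List.all_eq_true] at this
  intro c hc
  exact of_decide_eq_true (this c hc)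

theorem ok_SW {w : List ℕ} (h : w ∈ SW) : OK w :=
  ok_of_mem (List.mem_append_left _ (List.mem_append_left _ h))

theorem ok_DW {w : List ℕ} (h : w ∈ DW) : OK w :=
  ok_of_mem (List.mem_append_left _ (List.mem_append_right _ h))

theorem ok_CJ {w : List ℕ} (h : w ∈ CJ) : OK w := ok_of_mem (List.mem_append_right _ h)

theorem ok_z : OK [16] := by
  intro c hc
  rw [List.mem_singleton] at hc
  omega

theorem ra_elt {w : List ℕ} (hw : OK w) {q : ℕ} (hq : q < 275) : ra (M.elt w) q = wa w q := by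
  have hw' : ∀ c ∈ w, c < M.nl := by
    intro c hc
    have : M.nl = 19 := mclS_nl
    rw [this]
    exact hw c hc
  unfold ra wa
  rw [ract_elt M w hw' q hq, wappS_eq]
  rfl

/-- a function on the natural numbers gives the action of an element of the group -/
def EvW (f : ℕ → ℕ) (g : M.G) : Prop := ∀ q, q < 275 → ra g q = f q

theorem EvW.mul {f f' : ℕ → ℕ} {g h : M.G} (hg : EvW f g) (hh : EvW f' h) :
    EvW (fun q => f' (f q)) (g * h) := by
  intro q hq
  rw [ra_mul, hh _ (ra_lt g q), hg q hq]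

theorem evW_elt {w : List ℕ} (hw : OK w) : EvW (wa w) (M.elt w) := fun _ hq => ra_elt hw hq

theorem evW_one : EvW (fun q => q) 1 := fun _ hq => ra_one hq

/-- elements with the same images of the base are equal -/
theorem eq_of_tup {g g' : M.G} (h : tupF (ra g) = tupF (ra g')) : g = g' := by
  apply factsC.eq_of_ract_base
  intro b hb
  have hb' : b ∈ [0, 1, 2, 3, 4] := by
    have : DC.base = baseC := rfl
    rw [this, chk_base] at hb
    exact hb
  unfold tupF at h
  simp only [List.map_cons, List.map_nil, List.cons.injEq, and_true] at h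
  obtain ⟨h0, h1, h2, h3, h4⟩ := h
  simp only [List.mem_cons, List.not_mem_nil, or_false] at hb'
  rcases hb' with rfl | rfl | rfl | rfl | rfl
  · exact h0
  · exact h1
  · exact h2
  · exact h3
  · exact h4

theorem tupF_elt {w : List ℕ} (hw : OK w) : tupF (ra (M.elt w)) = tup w := by
  unfold tup tupF
  simp only [List.map_cons, List.map_nil]
  rw [ra_elt hw (by norm_num), ra_elt hw (by norm_num), ra_elt hw (by norm_num),
    ra_elt hw (by norm_num), ra_elt hw (by norm_num)]

theorem elt_eq_of_tup {u v : List ℕ} (hu : OK u) (hv : OK v) (h : tup u = tup v) :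
    M.elt u = M.elt v := by
  apply eq_of_tup
  rw [tupF_elt hu, tupF_elt hv, h]

theorem elt_eq_of_eqT {u v : List ℕ} (hu : OK u) (hv : OK v) (h : eqT u v = true) :
    M.elt u = M.elt v := by
  unfold eqT at h
  rw [beq_iff_eq] at h
  exact elt_eq_of_tup hu hv h

theorem eqT_of_elt_eq {u v : List ℕ} (hu : OK u) (hv : OK v) (h : M.elt u = M.elt v) :
    eqT u v = true := by
  unfold eqT
  rw [beq_iff_eq, ← tupF_elt hu, ← tupF_elt hv, h]

/-- an element of the list with given images of the base -/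
theorem exists_of_contains {u : List ℕ} (hu : OK u) (h : TUPS.contains (tup u) = true) :
    ∃ w ∈ SW, M.elt u = M.elt w := by
  rw [List.contains_iff_mem, ← chk_tups, List.mem_map] at h
  obtain ⟨w, hw, e⟩ := h
  exact ⟨w, hw, elt_eq_of_tup hu (ok_SW hw) e.symm⟩

/-! ## The Sylow subgroup -/

/-- the central involution -/
noncomputable def zz : M.G := M.elt [16]

/-- the Sylow subgroup, generated by three involutions -/
noncomputable def Sn : Subgroup M.G := Subgroup.closure {g | ∃ d ∈ DW, g = M.elt d}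

theorem elt_DW_mem {d : List ℕ} (hd : d ∈ DW) : M.elt d ∈ Sn :=
  Subgroup.subset_closure ⟨d, hd, rfl⟩

theorem sq_DW {d : List ℕ} (hd : d ∈ DW) : M.elt d * M.elt d = 1 := by
  have h := List.all_eq_true.mp chk_invD d hd
  have := elt_eq_of_eqT ((ok_DW hd).append (ok_DW hd)) OK_nil h
  rw [M.elt_append, M.elt_nil] at this
  exact this

/-- every element of the Sylow subgroup is the element of a listed word -/
theorem exists_of_mem_Sn {g : M.G} (hg : g ∈ Sn) : ∃ w ∈ SW, g = M.elt w := by
  have key : ∀ w ∈ SW, ∀ d ∈ DW, ∃ w' ∈ SW, M.elt w * M.elt d = M.elt w' := by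
    intro w hw d hd
    have h := List.all_eq_true.mp (List.all_eq_true.mp chk_mulD w hw) d hd
    obtain ⟨w', hw', e⟩ := exists_of_contains ((ok_SW hw).append (ok_DW hd)) h
    rw [M.elt_append] at e
    exact ⟨w', hw', e⟩
  unfold Sn at hg
  induction hg using Subgroup.closure_induction_right with
  | one => exact ⟨[], List.contains_iff_mem.mp chk_one, M.elt_nil.symm⟩
  | mul_right x hx y hy ih =>
    obtain ⟨w, hw, rfl⟩ := ih
    obtain ⟨d, hd, rfl⟩ := hy
    obtain ⟨w', hw', e⟩ := key w hw d hd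
    exact ⟨w', hw', e⟩
  | mul_inv_cancel x hx y hy ih =>
    obtain ⟨w, hw, rfl⟩ := ih
    obtain ⟨d, hd, rfl⟩ := hy
    have hinv : (M.elt d)⁻¹ = M.elt d := inv_eq_of_mul_eq_one_left (sq_DW hd)
    rw [hinv]
    obtain ⟨w', hw', e⟩ := key w hw d hd
    exact ⟨w', hw', e⟩

/-! ## The orbit of the base under a subgroup containing the three involutions -/

theorem tupF_mul {g x : M.G} {f : ℕ → ℕ} (hx : EvW f x) :
    tupF (ra (g * x)) = (tupF (ra g)).map f := by
  unfold tupF
  simp only [List.map_cons, List.map_nil]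
  rw [ra_mul, ra_mul, ra_mul, ra_mul, ra_mul, hx _ (ra_lt _ _), hx _ (ra_lt _ _),
    hx _ (ra_lt _ _), hx _ (ra_lt _ _), hx _ (ra_lt _ _)]

theorem orb_sound (T : Subgroup M.G) (f0 f1 f2 : ℕ → ℕ) (h0 : ∃ x ∈ T, EvW f0 x)
    (h1 : ∃ x ∈ T, EvW f1 x) (h2 : ∃ x ∈ T, EvW f2 x) :
    ∀ (L : List (List ℕ × List ℕ × ℕ)) (prev : List (List ℕ)),
      orbChk f0 f1 f2 prev L = true →
      (∀ p ∈ prev, ∃ g ∈ T, tupF (ra g) = p) → ∀ e ∈ L, ∃ g ∈ T, tupF (ra g) = e.1 := by
  have hsel : ∀ k, ∃ x ∈ T, EvW (sel f0 f1 f2 k) x := by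
    intro k
    unfold sel
    split_ifs
    · exact h0
    · exact h1
    · exact h2
  intro L
  induction L with
  | nil => intro _ _ _ e he; simp at he
  | cons e0 rest ih =>
    intro prev h hprev e he
    unfold orbChk at h
    rw [Bool.and_eq_true, Bool.and_eq_true] at h
    obtain ⟨⟨ha, hb⟩, hc⟩ := h
    have hgood : ∃ g ∈ T, tupF (ra g) = e0.1 := by
      rw [List.contains_iff_mem] at ha
      rw [beq_iff_eq] at hb
      obtain ⟨g, hgT, hg⟩ := hprev _ ha
      obtain ⟨x, hxT, hx⟩ := hsel e0.2.2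
      refine ⟨g * x, Subgroup.mul_mem _ hgT hxT, ?_⟩
      rw [tupF_mul hx, hg]
      exact hb
    rcases List.mem_cons.mp he with rfl | he'
    · exact hgood
    · refine ih (e0.1 :: prev) hc ?_ e he'
      intro p hp
      rcases List.mem_cons.mp hp with rfl | hp'
      · exact hgood
      · exact hprev p hp'

theorem D0_mem : D0 ∈ DW := by unfold DW; simp
theorem D1_mem : D1 ∈ DW := by unfold DW; simp
theorem D2_mem : D2 ∈ DW := by unfold DW; simp

theorem mem_DW {d : List ℕ} (h : d ∈ DW) : d = D0 ∨ d = D1 ∨ d = D2 := by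
  unfold DW at h
  simpa using h

/-- a subgroup containing the three involutions contains the elements of the listed words -/
theorem elt_mem_of_gens (T : Subgroup M.G) (h0 : M.elt D0 ∈ T) (h1 : M.elt D1 ∈ T)
    (h2 : M.elt D2 ∈ T) {w : List ℕ} (hw : w ∈ SW) : M.elt w ∈ T := by
  have hstart : ∃ g ∈ T, tupF (ra g) = [0, 1, 2, 3, 4] := by
    refine ⟨1, Subgroup.one_mem _, ?_⟩
    unfold tupF
    simp only [List.map_cons, List.map_nil]
    rw [ra_one (by norm_num), ra_one (by norm_num), ra_one (by norm_num), ra_one (by norm_num),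
      ra_one (by norm_num)]
  have hall := orb_sound T _ _ _ ⟨_, h0, evW_elt (ok_DW D0_mem)⟩ ⟨_, h1, evW_elt (ok_DW D1_mem)⟩
    ⟨_, h2, evW_elt (ok_DW D2_mem)⟩ ORBP [[0, 1, 2, 3, 4]] chk_orb (by
      intro p hp
      rw [List.mem_singleton] at hp
      rw [hp]
      exact hstart)
  have hmem : tup w ∈ TUPS := by
    rw [← chk_tups]
    exact List.mem_map.mpr ⟨w, hw, rfl⟩
  have hmem2 := List.all_eq_true.mp chk_SW_orb _ hmem
  rw [List.contains_iff_mem] at hmem2
  have hex : ∃ g ∈ T, tupF (ra g) = tup w := by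
    rcases List.mem_cons.mp hmem2 with h | h
    · rw [h]; exact hstart
    · obtain ⟨e, he, h'⟩ := List.mem_map.mp h
      rw [← h']
      exact hall e he
  obtain ⟨g, hgT, hg⟩ := hex
  have : g = M.elt w := by
    apply eq_of_tup
    rw [hg, tupF_elt (ok_SW hw)]
  rw [← this]
  exact hgT

theorem elt_mem_Sn {w : List ℕ} (hw : w ∈ SW) : M.elt w ∈ Sn :=
  elt_mem_of_gens Sn (elt_DW_mem D0_mem) (elt_DW_mem D1_mem) (elt_DW_mem D2_mem) hw

theorem zz_mem_Sn : zz ∈ Sn := elt_mem_Sn (List.contains_iff_mem.mp chk_z)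

theorem SW_nodup : SW.Nodup := by
  have := chk_nodup
  rw [← chk_tups] at this
  exact List.Nodup.of_map _ this

theorem elt_injOn {w w' : List ℕ} (hw : w ∈ SW) (hw' : w' ∈ SW) (e : M.elt w = M.elt w') :
    w = w' := by
  have hn := chk_nodup
  rw [← chk_tups] at hn
  refine List.inj_on_of_nodup_map hn hw hw' ?_
  rw [← tupF_elt (ok_SW hw), ← tupF_elt (ok_SW hw'), e]

theorem card_Sn : Nat.card Sn = 128 := by
  have hnd : (SW.map M.elt).Nodup :=
    List.Nodup.map_on (fun w hw w' hw' e => elt_injOn hw hw' e) SW_nodup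
  have hset : (Sn : Set M.G) = ↑(SW.map M.elt).toFinset := by
    ext g
    rw [Finset.mem_coe, List.mem_toFinset, List.mem_map, SetLike.mem_coe]
    constructor
    · intro hg
      obtain ⟨w, hw, e⟩ := exists_of_mem_Sn hg
      exact ⟨w, hw, e.symm⟩
    · rintro ⟨w, hw, rfl⟩
      exact elt_mem_Sn hw
  have : Nat.card Sn = Nat.card (Sn : Set M.G) := rfl
  rw [this, hset, Nat.card_coe_set_eq, Set.ncard_coe_finset, List.toFinset_card_of_nodup hnd,
    List.length_map, chk_len]

/-! ## The center -/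

theorem zz_ne_one : zz ≠ 1 := by
  intro h
  have h1 : M.elt [16] = M.elt [] := by rw [M.elt_nil]; exact h
  have h2 := eqT_of_elt_eq ok_z OK_nil h1
  revert h2
  decide +kernel

/-- the center of the Sylow subgroup has order two -/
theorem center_Sn {x : M.G} (hx : x ∈ Sn) (hc : ∀ s ∈ Sn, x * s = s * x) : x = 1 ∨ x = zz := by
  obtain ⟨w, hw, rfl⟩ := exists_of_mem_Sn hx
  have h := List.all_eq_true.mp chk_center w hw
  rw [Bool.or_eq_true, Bool.or_eq_true] at h
  rcases h with (h | h) | h
  · left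
    have := elt_eq_of_eqT (ok_SW hw) OK_nil h
    rw [M.elt_nil] at this
    exact this
  · right
    exact elt_eq_of_eqT (ok_SW hw) ok_z h
  · exfalso
    rw [List.any_eq_true] at h
    obtain ⟨d, hd, hn⟩ := h
    rw [Bool.not_eq_true', ← Bool.not_eq_true] at hn
    apply hn
    apply eqT_of_elt_eq ((ok_SW hw).append (ok_DW hd)) ((ok_DW hd).append (ok_SW hw))
    rw [M.elt_append, M.elt_append]
    exact hc _ (elt_DW_mem hd)

end Cfsg.Agent.Lib.Helper4.McLF
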