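import Cfsg.Agent.Lib.Helper4.McLF.G1
import Cfsg.Agent.Lib.Helper9.AltFus0

set_option autoImplicit false

/-! # The Sylow 2-subgroup of the McLaughlin group is its own normalizer; the fusion system -/

namespace Cfsg.Agent.Lib.Helper4.McLF

open Cfsg.Agent.Lib.Helper6.TC Cfsg.Agent.Lib.Helper6.PM Cfsg.Agent.Lib.Helper2.PMS
open Cfsg.Agent.Lib.Helper5.Chain
open Cfsg.Agent.Lib.Helper7.McLB (pm baseC levelsC mclS DC factsC mclS_nl card_McL)
open Classical

/-- the elements of the Sylow subgroup fix the first point -/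
theorem ra_zero_of_mem {s : M.G} (hs : s ∈ Sn) : ra s 0 = 0 := by
  unfold Sn at hs
  induction hs using Subgroup.closure_induction with
  | mem x hx =>
    obtain ⟨d, hd, rfl⟩ := hx
    rw [ra_elt (ok_DW hd) (by norm_num)]
    have := List.all_eq_true.mp chk_Dfix0 d hd
    rw [beq_iff_eq] at this
    exact this
  | one => exact ra_one (by norm_num)
  | mul x y _ _ hx hy => rw [ra_mul, hx, hy]
  | inv x _ hx =>
    have := ra_inv_ra x (q := 0) (by norm_num)
    rw [hx] at this
    exact this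

/-- the labels of the orbits are invariant under the Sylow subgroup -/
theorem olab_of_mem {s : M.G} (hs : s ∈ Sn) : ∀ q, q < 275 → olab (ra s q) = olab q := by
  unfold Sn at hs
  induction hs using Subgroup.closure_induction with
  | mem x hx =>
    obtain ⟨d, hd, rfl⟩ := hx
    intro q hq
    rw [ra_elt (ok_DW hd) hq]
    have := List.all_eq_true.mp (List.all_eq_true.mp chk_olab q (List.mem_range.mpr hq)) d hd
    rw [beq_iff_eq] at this
    exact this
  | one => intro q hq; rw [ra_one hq]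
  | mul x y _ _ hx hy =>
    intro q hq
    rw [ra_mul, hy _ (ra_lt _ _), hx q hq]
  | inv x _ hx =>
    intro q hq
    have := hx (ra x⁻¹ q) (ra_lt _ _)
    rw [ra_ra_inv x hq] at this
    exact this.symm

theorem conj_mem_of_normalizer {g : M.G} (hg : g ∈ Subgroup.normalizer (Sn : Set M.G)) {s : M.G}
    (hs : s ∈ Sn) : g * s * g⁻¹ ∈ Sn := ((Subgroup.mem_normalizer_iff.mp hg) s).mp hs

theorem conj_mem_of_normalizer' {g : M.G} (hg : g ∈ Subgroup.normalizer (Sn : Set M.G)) {s : M.G}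
    (hs : s ∈ Sn) : g⁻¹ * s * g ∈ Sn := by
  rw [(Subgroup.mem_normalizer_iff.mp hg) (g⁻¹ * s * g)]
  have : g * (g⁻¹ * s * g) * g⁻¹ = s := by group
  rw [this]
  exact hs

/-- an element of the normalizer commutes with the central involution -/
theorem comm_of_normalizer {g : M.G} (hg : g ∈ Subgroup.normalizer (Sn : Set M.G)) :
    g * zz = zz * g := by
  have h1 : g * zz * g⁻¹ ∈ Sn := conj_mem_of_normalizer hg zz_mem_Sn
  have hzc : ∀ s ∈ Sn, zz * s = s * zz := by
    intro s hs
    -- the involution is central: it is the only candidate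
    obtain ⟨w, hw, rfl⟩ := exists_of_mem_Sn hs
    have h := List.all_eq_true.mp chk_zcomm w hw
    have := elt_eq_of_eqT (ok_z.append (ok_SW hw)) ((ok_SW hw).append ok_z) h
    rw [M.elt_append, M.elt_append] at this
    exact this
  have h2 : ∀ s ∈ Sn, (g * zz * g⁻¹) * s = s * (g * zz * g⁻¹) := by
    intro s hs
    have h3 := conj_mem_of_normalizer' hg hs
    have h4 := hzc _ h3
    calc g * zz * g⁻¹ * s = g * (zz * (g⁻¹ * s * g)) * g⁻¹ := by group
      _ = g * ((g⁻¹ * s * g) * zz) * g⁻¹ := by rw [h4]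
      _ = s * (g * zz * g⁻¹) := by group
  rcases center_Sn h1 h2 with h | h
  · exfalso
    apply zz_ne_one
    have : zz = g⁻¹ * (g * zz * g⁻¹) * g := by group
    rw [this, h]
    group
  · calc g * zz = (g * zz * g⁻¹) * g := by group
      _ = zz * g := by rw [h]

/-- an element of the normalizer fixes the first point -/
theorem ra_zero_of_normalizer {g : M.G} (hg : g ∈ Subgroup.normalizer (Sn : Set M.G)) :
    ra g 0 = 0 := by
  have hq : ra g 0 < 275 := ra_lt _ _
  have hfix : ∀ d ∈ DW, wa d (ra g 0) = ra g 0 := by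
    intro d hd
    rw [← ra_elt (ok_DW hd) hq, ← ra_mul]
    have h1 := conj_mem_of_normalizer hg (elt_DW_mem hd)
    have e : g * M.elt d = (g * M.elt d * g⁻¹) * g := by group
    rw [e, ra_mul, ra_zero_of_mem h1]
  have h := List.all_eq_true.mp chk_fix0 (ra g 0) (List.mem_range.mpr hq)
  rw [Bool.or_eq_true] at h
  rcases h with h | h
  · exact beq_iff_eq.mp h
  · exfalso
    rw [List.any_eq_true] at h
    obtain ⟨d, hd, hn⟩ := h
    rw [bne_iff_ne] at hn
    exact hn (hfix d hd)

/-- the central involution fixes the images of the points that it fixes -/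
theorem FZ_of_normalizer {g : M.G} (hg : g ∈ Subgroup.normalizer (Sn : Set M.G)) {b : ℕ}
    (hb : b ∈ [1, 2, 3]) : FZ (ra g b) = true := by
  have hb275 : b < 275 := by
    simp only [List.mem_cons, List.not_mem_nil, or_false] at hb
    omega
  have hz : wa [16] b = b := beq_iff_eq.mp (List.all_eq_true.mp chk_zfix b hb)
  unfold FZ
  rw [beq_iff_eq, ← ra_elt ok_z (ra_lt _ _)]
  show ra zz (ra g b) = ra g b
  rw [← ra_mul, comm_of_normalizer hg, ra_mul]
  show ra g (ra (M.elt [16]) b) = ra g b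
  rw [ra_elt ok_z hb275, hz]

theorem ok_levels {Lj : List (List ℕ)} (hL : Lj ∈ levelsC) {w : List ℕ} (hw : w ∈ Lj) : OK w := by
  intro c hc
  have h := factsC.hlet Lj hL w hw c hc
  have e : mclS.nl = 19 := mclS_nl
  rw [e] at h
  exact h

theorem wapp_eq_wa (w : List ℕ) (q : ℕ) : wapp M.px w q = wa w q := by
  unfold wa
  rw [wappS_eq]
  rfl

/-- an element of the normalizer of the Sylow subgroup is the element of a candidate word -/
theorem exists_cand {g : M.G} (hg : g ∈ Subgroup.normalizer (Sn : Set M.G)) :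
    ∃ u ∈ CAND, OK u ∧ g = M.elt u := by
  obtain ⟨u, hu, rfl⟩ := factsC.factor g
  have hlev : DC.levels = [L1, L2, L3, L4, L5] := chk_levels
  have hchain := factsC.hchain
  have hbase : DC.base = [0, 1, 2, 3, 4] := chk_base
  rw [hlev, hbase] at hchain
  obtain ⟨_, hf0, _, hf1, _, hf2, _, hf3, _⟩ := hchain
  rw [hlev] at hu
  rw [mem_prods_cons] at hu
  obtain ⟨t2, ht2, v1, hv1, rfl⟩ := hu
  have ht2' := ht2
  rw [mem_prods_cons] at ht2
  obtain ⟨t3, ht3, v2, hv2, rfl⟩ := ht2
  have ht3' := ht3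
  rw [mem_prods_cons] at ht3
  obtain ⟨t4, ht4, v3, hv3, rfl⟩ := ht3
  have ht4' := ht4
  rw [mem_prods_cons] at ht4
  obtain ⟨t5, ht5, v4, hv4, rfl⟩ := ht4
  rw [mem_prods_cons] at ht5
  obtain ⟨t6, ht6, v5, hv5, rfl⟩ := ht5
  have ht6' : t6 = [] := by simpa [prods] using ht6
  subst ht6'
  have hmemL : ∀ {L : List (List ℕ)}, L ∈ [L1, L2, L3, L4, L5] → L ∈ levelsC := by
    intro L hL
    have e : levelsC = [L1, L2, L3, L4, L5] := chk_levels
    rw [e]
    exact hL
  have o1 : OK v1 := ok_levels (hmemL (by simp)) hv1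
  have o2 : OK v2 := ok_levels (hmemL (by simp)) hv2
  have o3 : OK v3 := ok_levels (hmemL (by simp)) hv3
  have o4 : OK v4 := ok_levels (hmemL (by simp)) hv4
  have o5 : OK v5 := ok_levels (hmemL (by simp)) hv5
  have oall : OK (([] ++ v5 ++ v4 ++ v3 ++ v2) ++ v1) :=
    ((((OK_nil.append o5).append o4).append o3).append o2).append o1
  -- the first level
  have e0 : ra (M.elt (([] ++ v5 ++ v4 ++ v3 ++ v2) ++ v1)) 0 = wa v1 0 := by
    rw [ra_elt oall (by norm_num), ← wapp_eq_wa, wapp_append,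
      wapp_prods_fix M.px 0 [L2, L3, L4, L5] hf0 _ ht2', wapp_eq_wa]
  have hv1' : v1 = [] := by
    have h := List.all_eq_true.mp chk_L1 v1 hv1
    rw [Bool.or_eq_true] at h
    rcases h with h | h
    · exfalso
      rw [bne_iff_ne] at h
      apply h
      rw [← e0]
      exact ra_zero_of_normalizer hg
    · exact beq_iff_eq.mp h
  subst hv1'
  have e1 : ra (M.elt (([] ++ v5 ++ v4 ++ v3 ++ v2) ++ [])) 1 = wa v2 1 := by
    rw [ra_elt oall (by norm_num), List.append_nil, ← wapp_eq_wa, wapp_append,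
      wapp_prods_fix M.px 1 [L3, L4, L5] hf1 _ ht3', wapp_eq_wa]
  have e2 : ra (M.elt (([] ++ v5 ++ v4 ++ v3 ++ v2) ++ [])) 2 = wa (v3 ++ v2) 2 := by
    rw [ra_elt oall (by norm_num), List.append_nil, List.append_assoc ([] ++ v5 ++ v4) v3 v2,
      ← wapp_eq_wa, wapp_append, wapp_prods_fix M.px 2 [L4, L5] hf2 _ ht4', wapp_eq_wa]
  have e3 : ra (M.elt (([] ++ v5 ++ v4 ++ v3 ++ v2) ++ [])) 3 = wa (v4 ++ (v3 ++ v2)) 3 := by
    have ht5' : [] ++ v5 ∈ prods [L5] := by
      rw [mem_prods_cons]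
      exact ⟨[], ht6, v5, hv5, rfl⟩
    rw [ra_elt oall (by norm_num), List.append_nil, List.append_assoc ([] ++ v5 ++ v4) v3 v2,
      List.append_assoc ([] ++ v5) v4 (v3 ++ v2),
      ← wapp_eq_wa, wapp_append, wapp_prods_fix M.px 3 [L5] hf3 _ ht5', wapp_eq_wa]
  have z1 := FZ_of_normalizer hg (b := 1) (by simp)
  have z2 := FZ_of_normalizer hg (b := 2) (by simp)
  have z3 := FZ_of_normalizer hg (b := 3) (by simp)
  rw [e1] at z1
  rw [e2] at z2
  rw [e3] at z3
  refine ⟨v5 ++ (v4 ++ (v3 ++ v2)), ?_, ((o5.append (o4.append (o3.append o2)))), ?_⟩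
  · unfold CAND
    rw [List.mem_flatMap]
    refine ⟨v2, List.mem_filter.mpr ⟨hv2, z1⟩, ?_⟩
    rw [List.mem_flatMap]
    refine ⟨v3, List.mem_filter.mpr ⟨hv3, z2⟩, ?_⟩
    rw [List.mem_flatMap]
    refine ⟨v4, List.mem_filter.mpr ⟨hv4, z3⟩, ?_⟩
    exact List.mem_map.mpr ⟨v5, hv5, rfl⟩
  · congr 1
    simp only [List.nil_append, List.append_nil, List.append_assoc]

/-- the Sylow subgroup is its own normalizer -/
theorem mem_of_normalizer {g : M.G} (hg : g ∈ Subgroup.normalizer (Sn : Set M.G)) : g ∈ Sn := by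
  obtain ⟨u, hu, ou, rfl⟩ := exists_cand hg
  have h := List.all_eq_true.mp chk_cand u hu
  rw [Bool.or_eq_true] at h
  rcases h with h | h
  · exfalso
    rw [bne_iff_ne] at h
    apply h
    -- the two points are in one orbit of the Sylow subgroup
    have hsx := chk_SX
    rw [Bool.and_eq_true, List.contains_iff_mem, beq_iff_eq] at hsx
    obtain ⟨hsx1, hsx2⟩ := hsx
    have hs : M.elt SX ∈ Sn := elt_mem_Sn hsx1
    have hs' := conj_mem_of_normalizer' hg hs
    rw [← ra_elt ou (by norm_num : 2 < 275), ← ra_elt ou (by norm_num : 246 < 275), ← hsx2,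
      ← ra_elt (ok_SW hsx1) (by norm_num : 2 < 275), ← ra_mul]
    have e : M.elt SX * M.elt u = M.elt u * ((M.elt u)⁻¹ * M.elt SX * M.elt u) := by group
    rw [e, ra_mul, olab_of_mem hs' _ (ra_lt _ _)]
  · obtain ⟨w, hw, e⟩ := exists_of_contains ou h
    rw [e]
    exact elt_mem_Sn hw

end Cfsg.Agent.Lib.Helper4.McLF
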