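import Cfsg.Agent.Lib.Helper4.McLF.G2

set_option autoImplicit false

/-! # The fusion system of the McLaughlin group at the prime two is simple -/

namespace Cfsg.Agent.Lib.Helper4.McLF

open Cfsg.Agent.Lib.Helper6.TC Cfsg.Agent.Lib.Helper6.PM Cfsg.Agent.Lib.Helper2.PMS
open Cfsg.Agent.Lib.Helper5.Chain
open Cfsg.Agent.Lib.Helper7.McLB (pm baseC levelsC mclS DC factsC mclS_nl card_McL)
open Classical

theorem K0_mem : K0 ∈ CJ := by unfold CJ; simp
theorem K1_mem : K1 ∈ CJ := by unfold CJ; simp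
theorem K2_mem : K2 ∈ CJ := by unfold CJ; simp

theorem conj_of_eqT {k d : List ℕ} (hk : OK k) (hd : OK d) (h : eqT (k ++ [16]) (d ++ k) = true) :
    M.elt k * zz * (M.elt k)⁻¹ = M.elt d := by
  have e := elt_eq_of_eqT (hk.append ok_z) (hd.append hk) h
  rw [M.elt_append, M.elt_append] at e
  unfold zz
  rw [e, mul_inv_cancel_right]

/-- the three involutions are conjugate to the central involution -/
theorem conj_D : M.elt K0 * zz * (M.elt K0)⁻¹ = M.elt D0 ∧ M.elt K1 * zz * (M.elt K1)⁻¹ = M.elt D1 ∧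
    M.elt K2 * zz * (M.elt K2)⁻¹ = M.elt D2 := by
  have h := chk_conj
  rw [Bool.and_eq_true, Bool.and_eq_true] at h
  exact ⟨conj_of_eqT (ok_CJ K0_mem) (ok_DW D0_mem) h.1,
    conj_of_eqT (ok_CJ K1_mem) (ok_DW D1_mem) h.2.1,
    conj_of_eqT (ok_CJ K2_mem) (ok_DW D2_mem) h.2.2⟩

/-- a nontrivial strongly closed subgroup of the Sylow subgroup is the whole of it -/
theorem Sn_le_of_closed (T : Subgroup M.G) (hT : T ≤ Sn) (hne : T ≠ ⊥)
    (hcl : ∀ x ∈ T, ∀ g : M.G, g * x * g⁻¹ ∈ Sn → g * x * g⁻¹ ∈ T) : Sn ≤ T := by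
  haveI : Fact (Nat.Prime 2) := ⟨Nat.prime_two⟩
  have hP : IsPGroup 2 Sn := IsPGroup.of_card (n := 7) (by rw [card_Sn]; norm_num)
  obtain ⟨z, hzT, hz1, hzc⟩ := Cfsg.Agent.H9L3.exists_central_of_normal' hP hT hne
    (fun g hg x hx => hcl x hx g (Subgroup.mul_mem _ (Subgroup.mul_mem _ hg (hT hx))
      (Subgroup.inv_mem _ hg)))
  have hz : z = zz := by
    rcases center_Sn (hT hzT) (fun s hs => (hzc s hs).symm) with h | h
    · exact absurd h hz1
    · exact h
  have hzz : zz ∈ T := hz ▸ hzT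
  obtain ⟨c0, c1, c2⟩ := conj_D
  have h0 : M.elt D0 ∈ T := by
    have := hcl zz hzz (M.elt K0)
    rw [c0] at this
    exact this (elt_DW_mem D0_mem)
  have h1 : M.elt D1 ∈ T := by
    have := hcl zz hzz (M.elt K1)
    rw [c1] at this
    exact this (elt_DW_mem D1_mem)
  have h2 : M.elt D2 ∈ T := by
    have := hcl zz hzz (M.elt K2)
    rw [c2] at this
    exact this (elt_DW_mem D2_mem)
  intro s hs
  obtain ⟨w, hw, rfl⟩ := exists_of_mem_Sn hs
  exact elt_mem_of_gens T h0 h1 h2 hw

theorem two_part_G : (898128000 : ℕ).factorization 2 = 7 := by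
  have h1 : 7 ≤ (898128000 : ℕ).factorization 2 :=
    (Nat.prime_two.pow_dvd_iff_le_factorization (by norm_num)).mp (by norm_num)
  have h2 : ¬ 8 ≤ (898128000 : ℕ).factorization 2 := by
    intro h
    have := (Nat.prime_two.pow_dvd_iff_le_factorization (by norm_num)).mpr h
    norm_num at this
  omega

theorem exists_orderOf_of_mem_Sn {x : M.G} (hx : x ∈ Sn) : ∃ j : ℕ, orderOf x = 2 ^ j := by
  have hP : IsPGroup 2 Sn := IsPGroup.of_card (n := 7) (by rw [card_Sn]; norm_num)
  obtain ⟨k, hk⟩ := IsPGroup.iff_orderOf.mp hP ⟨x, hx⟩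
  refine ⟨k, ?_⟩
  rw [← hk]
  exact (Subgroup.orderOf_mk x hx).symm

/-- the fusion system at the prime two of a group isomorphic to the McLaughlin group is simple -/
theorem fusion_simple {H : Type*} [Group H] [Finite H] (e : H ≃* M.G) (S : Sylow 2 H) :
    (Cfsg.groupFusionSystem (S : Subgroup H)).IsSimple 2 := by
  haveI : Fact (Nat.Prime 2) := ⟨Nat.prime_two⟩
  refine Cfsg.Agent.H9AF.simple_of_data_hom (e : H →* M.G) e.injective ⊤ ?_ 2 Sn le_top ?_ ?_ ?_
    (Sn : Set M.G) ?_ ?_ S
  · exact MonoidHom.range_eq_top.mpr e.surjective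
  · have hc : Nat.card M.G = 898128000 := card_McL
    rw [card_Sn, Subgroup.card_top, hc, two_part_G]
    norm_num
  · intro h
    have := card_Sn
    rw [h, Subgroup.card_bot] at this
    norm_num at this
  · intro T hT hne hcl
    exact Sn_le_of_closed T hT hne (fun x hx g hg => hcl x hx g (Subgroup.mem_top _) hg)
  · intro g _ hg
    exact Subgroup.subset_closure (mem_of_normalizer hg)
  · intro γ hγ
    have hγ' : γ ∈ Sn := hγ
    refine ⟨Subgroup.mem_top _, Subgroup.le_normalizer hγ', Sn, le_refl _, ?_, ?_⟩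
    · intro x _ hx
      apply mem_of_normalizer
      rw [Subgroup.mem_normalizer_iff]
      intro s
      constructor
      · intro hs
        have : x * s * x⁻¹ = s := by rw [hx s hs, mul_inv_cancel_right]
        rw [this]
        exact hs
      · intro hs
        have h1 := hx _ hs
        -- x commutes with x s x⁻¹, hence with s
        have h2 : x * s = s * x := by
          have : x * (x * s * x⁻¹) = (x * s * x⁻¹) * x := h1
          have e1 : x * (x * s * x⁻¹) * x = x * (x * s) := by group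
          have e2 : (x * s * x⁻¹) * x * x = x * (s * x) := by group
          have e3 : x * (x * s) = x * (s * x) := by rw [← e1, this, e2]
          exact mul_left_cancel e3
        have : s = x * s * x⁻¹ := by rw [h2, mul_inv_cancel_right]
        rw [this]
        exact hs
    · apply Subgroup.subset_closure
      exact ⟨Subgroup.mem_top _, Subgroup.le_normalizer hγ', exists_orderOf_of_mem_Sn hγ'⟩

end Cfsg.Agent.Lib.Helper4.McLF
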